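import Groth.Agent.CurvSt.K693.DensRing
import Groth.Agent.VarietyA.SmoothReg
import Groth.Agent.Smoothing.K359.SynRetract
import Groth.Agent.Synt.K563.SchNhd
import Mathlib.RingTheory.Jacobson.Ring
import Mathlib.Topology.JacobsonSpace

/-!
# First order smoothings of affine local complete intersections with isolated singularities
-/

set_option autoImplicit false
set_option backward.isDefEq.respectTransparency false
set_option backward.isDefEq.respectTransparency.types false

universe u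

open CategoryTheory CategoryTheory.Limits AlgebraicGeometry IsLocalRing

namespace K693.Dens

theorem isClosed_of_finite {X : Type*} [TopologicalSpace X] [JacobsonSpace X] {Z : Set X} (hZ : IsClosed Z)
    (hf : Z.Finite) {x : X} (hx : x ∈ Z) : IsClosed ({x} : Set X) := by
  have h1 : IsIrreducible (closure ({x} : Set X)) := isIrreducible_singleton.closure
  have h2 := subsingleton_image_closure_of_finite_of_isPreirreducible (f := (id : X → X))
    (isClosed_closure (s := ({x} : Set X))).isLocallyClosed h1.2 continuous_id IsClosedMap.id (by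
      rw [Set.image_id]
      exact hf.subset (closure_minimal (Set.singleton_subset_iff.2 hx) hZ))
  rw [Set.image_id, closure_closure] at h2
  have h3 : closure ({x} : Set X) = {x} := h2.eq_singleton_of_mem (subset_closure rfl)
  rw [← h3]
  exact isClosed_closure

theorem sqAt_Spec {E : Type u} [CommRing E] {R : CommRingCat.{u}} (φ : R ⟶ CommRingCat.of E)
    (x : Spec (CommRingCat.of E)) (a : R)
    (h : ∀ (L : Type u) [CommRing L] [IsLocalRing L] [Algebra E L] [IsLocalization.AtPrime L x.asIdeal],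
      algebraMap E L (φ.hom a) ∈ maximalIdeal L ^ 2) : SqAt (Spec.map φ) x a := by
  rw [SqAt, st_Spec]
  let _ : Algebra E ((Spec (CommRingCat.of E)).presheaf.stalk x) := StructureSheaf.stalkAlgebra E x
  have : IsLocalization.AtPrime ((Spec (CommRingCat.of E)).presheaf.stalk x) x.asIdeal :=
    inferInstanceAs (IsLocalization.AtPrime ((Spec.structureSheaf E).presheaf.stalk x) x.asIdeal)
  exact h ((Spec (CommRingCat.of E)).presheaf.stalk x)

/-- The normal vector smoothing all singular points to first order. -/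
theorem exists_normal {k : Type u} [Field k] [PerfectField k] {A : Type u} [CommRing A] [Algebra k A]
    [Algebra.FormallySmooth k A] [Algebra.FiniteType k A] (I : Ideal A) [Module.Projective (A ⧸ I) I.Cotangent]
    (hfin : {x : PrimeSpectrum (A ⧸ I) | ¬ Algebra.IsSmoothAt k x.asIdeal}.Finite) :
    ∃ φ : I →ₗ[A] A ⧸ I, ∀ x : PrimeSpectrum (A ⧸ I), ¬ Algebra.IsSmoothAt k x.asIdeal →
      ∃ (F : A) (hF : F ∈ I), F ∈ (x.asIdeal.comap (Ideal.Quotient.mk I)) ^ 2 ∧ φ ⟨F, hF⟩ ∉ x.asIdeal := by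
  classical
  have hN : IsNoetherianRing A := Algebra.FiniteType.isNoetherianRing k A
  have hJ : IsJacobsonRing (A ⧸ I) := isJacobsonRing_of_finiteType (A := k)
  have hJ' : JacobsonSpace (PrimeSpectrum (A ⧸ I)) := PrimeSpectrum.isJacobsonRing_iff_jacobsonSpace.mp hJ
  have hfp : Algebra.FinitePresentation k (A ⧸ I) := Algebra.FinitePresentation.of_finiteType.1 inferInstance
  have hcl : IsClosed {x : PrimeSpectrum (A ⧸ I) | ¬ Algebra.IsSmoothAt k x.asIdeal} :=
    (Algebra.isOpen_smoothLocus (R := k) (A := A ⧸ I)).isClosed_compl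
  have hmax : ∀ x : PrimeSpectrum (A ⧸ I), ¬ Algebra.IsSmoothAt k x.asIdeal → x.asIdeal.IsMaximal := fun x hx =>
    (PrimeSpectrum.isClosed_singleton_iff_isMaximal x).1 (isClosed_of_finite hcl hfin hx)
  let T : Finset (Ideal (A ⧸ I)) := hfin.toFinset.image PrimeSpectrum.asIdeal
  have hT : ∀ P ∈ T, P.IsMaximal ∧ ∃ _ : P.IsPrime, ¬ Algebra.IsSmoothAt k P := by
    intro P hP
    obtain ⟨x, hx, rfl⟩ := Finset.mem_image.1 hP
    have hx' := hfin.mem_toFinset.1 hx
    exact ⟨hmax x hx', x.2, hx'⟩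
  have hex : ∀ P : Ideal (A ⧸ I), ∃ F : A, P ∈ T → F ∈ I ∧ F ∈ (P.comap (Ideal.Quotient.mk I)) ^ 2 ∧
      F ∉ P.comap (Ideal.Quotient.mk I) * I := by
    intro P
    by_cases hP : P ∈ T
    · obtain ⟨h1, h2, h3⟩ := hT P hP
      obtain ⟨F, hF⟩ := exists_mem (k := k) I P h3
      exact ⟨F, fun _ => hF⟩
    · exact ⟨0, fun h => absurd h hP⟩
  choose F hF using hex
  obtain ⟨φ, hφ⟩ := exists_phi I T (fun P hP => (hT P hP).1) F (fun P hP => (hF P hP).1)
    (fun P hP => (hF P hP).2.2)
  refine ⟨φ, fun x hx => ?_⟩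
  have hxT : x.asIdeal ∈ T := Finset.mem_image.2 ⟨x, hfin.mem_toFinset.2 hx, rfl⟩
  exact ⟨F x.asIdeal, (hF _ hxT).1, (hF _ hxT).2.1, hφ _ hxT⟩

/-- The inclusion of the closed point of the spectrum of the dual numbers. -/
noncomputable abbrev iD (k : Type u) [Field k] : Spec (CommRingCat.of k) ⟶ Spec (CommRingCat.of (DualNumber k)) :=
  Spec.map (CommRingCat.ofHom (TrivSqZeroExt.fstHom k k k).toRingHom)

/-- The dual number `ε`, as an element of the object `CommRingCat.of (DualNumber k)`. -/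
abbrev epsD (k : Type u) [Field k] : (CommRingCat.of (DualNumber k)) := (DualNumber.eps : DualNumber k)

/-- The case of a closed subscheme of a smooth affine scheme. -/
theorem exists_lift_Spec {k : Type u} [Field k] [PerfectField k] {A : Type u} [CommRing A] [Algebra k A]
    [Algebra.FormallySmooth k A] [Algebra.FiniteType k A] (I : Ideal A) [Module.Projective (A ⧸ I) I.Cotangent]
    (hfin : {x : PrimeSpectrum (A ⧸ I) | ¬ Algebra.IsSmoothAt k x.asIdeal}.Finite) :
    ∃ (Y : Scheme.{u}) (y : Y ⟶ Spec (CommRingCat.of (DualNumber k))) (j : Spec (CommRingCat.of (A ⧸ I)) ⟶ Y),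
      IsPullback j (Spec.map (CommRingCat.ofHom (algebraMap k (A ⧸ I)))) y (iD k) ∧ Flat y ∧
      ∀ x : Spec (CommRingCat.of (A ⧸ I)), ¬ Algebra.IsSmoothAt k x.asIdeal → SqAt y (j x) (epsD k) := by
  obtain ⟨φ, hφ⟩ := exists_normal (k := k) I hfin
  refine ⟨Spec (CommRingCat.of (Def1 I φ)), Spec.map (CommRingCat.ofHom (str1 k I φ)),
    Spec.map (CommRingCat.ofHom (toQ I φ)), isPullback_def1 k I φ, flat_def1 k I φ, fun x hx => ?_⟩
  obtain ⟨F, hF, hF2, hFφ⟩ := hφ x hx
  refine sqAt_Spec _ _ _ ?_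
  intro L _ _ _ hL
  have h1 : (CommRingCat.ofHom (str1 k I φ)).hom (epsD k) = mk1 I φ DualNumber.eps := str1_eps k I φ
  rw [h1]
  have hL' : IsLocalization.AtPrime L (x.asIdeal.comap (toQ I φ)) := hL
  exact eps_mem_sq I φ x.asIdeal hF hF2 hFφ L

/-- **Affine local complete intersections with isolated singularities can be smoothed to first order.** -/
theorem exists_affine_lift {k : Type u} [Field k] [PerfectField k] {X₀ : Scheme.{u}} [IsAffine X₀]
    (f₀ : X₀ ⟶ Spec (CommRingCat.of k)) (h : Synt.IsSyntomicMor f₀) [LocallyOfFinitePresentation f₀]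
    (hns : {x : X₀ | x ∉ f₀.smoothLocus}.Finite) :
    ∃ (Y : Scheme.{u}) (y : Y ⟶ Spec (CommRingCat.of (DualNumber k))) (j : X₀ ⟶ Y),
      IsPullback j f₀ y (iD k) ∧ Flat y ∧ ∀ x : X₀, x ∉ f₀.smoothLocus → SqAt y (j x) (epsD k) := by
  obtain ⟨φ, hφ⟩ := Spec.map_surjective (X₀.isoSpec.inv ≫ f₀)
  have h1 : Synt.IsSyntomicMor (Spec.map φ) := by
    rw [hφ]
    exact K563.SchNhd.isSyntomicMor_openImmersion_comp _ _ h
  let _ : Algebra k Γ(X₀, ⊤) := φ.hom.toAlgebra
  have h2 : Synt.IsSyntomic k Γ(X₀, ⊤) := (K563.SchNhd.isSyntomicMor_spec_iff _ _).1 h1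
  obtain ⟨N, I, hI, hsyn, ⟨ε⟩⟩ := K359.SynRetract.exists_quotient h2
  have hsm : Algebra.Smooth k (MvPolynomial (Fin N) k) := K359.SynRetract.smooth_mvPolynomial k N
  have hproj : Module.Projective (MvPolynomial (Fin N) k ⧸ I) I.Cotangent :=
    (K359.SynRetract.finite_projective_cotangent I hsyn).2
  let e : X₀ ≅ Spec (CommRingCat.of (MvPolynomial (Fin N) k ⧸ I)) :=
    X₀.isoSpec ≪≫ Scheme.Spec.mapIso (RingEquiv.toCommRingCatIso (ε.symm : _ ≃+* _)).op
  have he : e.inv ≫ f₀ = Spec.map (CommRingCat.ofHom (algebraMap k (MvPolynomial (Fin N) k ⧸ I))) := by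
    have h3 : e.inv = Spec.map (RingEquiv.toCommRingCatIso (ε.symm : _ ≃+* _)).inv ≫ X₀.isoSpec.inv := by
      simp only [e, Iso.trans_inv, Functor.mapIso_inv, Iso.op_inv]
      rfl
    rw [h3, Category.assoc, ← hφ, ← Spec.map_comp]
    congr 1
    ext x
    exact ε.commutes x
  have hchart := Groth.Agent.VarietyA.SmoothReg.mem_smoothLocus_iff_chart f₀ e.inv he
  have hfin : {x : PrimeSpectrum (MvPolynomial (Fin N) k ⧸ I) | ¬ Algebra.IsSmoothAt k x.asIdeal}.Finite := by
    refine (hns.preimage (f := e.inv) (e.inv.injective.injOn)).subset ?_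
    intro x hx hx'
    exact hx ((hchart x).1 hx')
  obtain ⟨Y, y, j, sq, hfl, hsq⟩ := exists_lift_Spec (k := k) I hfin
  refine ⟨Y, y, e.hom ≫ j, ?_, hfl, fun x hx => ?_⟩
  · refine IsPullback.of_iso sq e.symm (Iso.refl _) (Iso.refl _) (Iso.refl _) ?_ ?_ ?_ ?_
    · simp
    · simp [he]
    · simp
    · simp
  · rw [Scheme.Hom.comp_apply]
    refine hsq _ fun h3 => hx ?_
    rw [← hchart, ← Scheme.Hom.comp_apply, e.hom_inv_id] at h3
    exact h3

end K693.Dens
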