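import Groth.Agent.SGA1.K151.JacCrit
import Mathlib.RingTheory.Ideal.Cotangent
import Mathlib.RingTheory.Nullstellensatz
import Mathlib.RingTheory.Smooth.Kaehler
import Mathlib.RingTheory.Smooth.Field

/-!
# A point where a quotient of a polynomial ring over an algebraically closed field is not smooth

`exists_mem`: `A` a smooth algebra over the perfect field `k`, `I` an ideal, `P` a maximal ideal of `A ⧸ I` at which `A ⧸ I`
is not smooth over `k`, `q` its preimage: there is `F ∈ I ∩ q ^ 2` not in `q * I`.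

`exists_dual`: if `I / I ^ 2` is projective and `F ∈ I`, `F ∉ q * I`, then some `A`-linear map `I → A ⧸ I` sends `F` outside `P`.

`exists_phi`: one linear map `I → A ⧸ I` for finitely many such points.
-/

set_option autoImplicit false

universe u

open TensorProduct IsLocalRing KaehlerDifferential

namespace K693.Dens

section

variable {k : Type u} [Field k] [PerfectField k] {A : Type u} [CommRing A] [Algebra k A]

/-- A function in a maximal ideal with vanishing differential is in the square. -/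
theorem mem_sq_of_D [Algebra.FormallySmooth k A] [Algebra.FiniteType k A] {q : Ideal A} [q.IsMaximal]
    {F : A} (hF : F ∈ q) (h : (1 : q.ResidueField) ⊗ₜ[A] D k A F = 0) : F ∈ q ^ 2 := by
  have hs : Function.Surjective (algebraMap A q.ResidueField) := Ideal.algebraMap_residueField_surjective q
  have h0 : Algebra.EssFiniteType k q.ResidueField := Algebra.EssFiniteType.comp k A _
  have h1 : Algebra.FormallySmooth k q.ResidueField := inferInstance
  have h2 := (Algebra.FormallySmooth.kerCotangentToTensor_injective_iff (R := k) hs).2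
    ((Algebra.formallySmooth_iff k q.ResidueField).1 h1).2
  have hk : RingHom.ker (algebraMap A q.ResidueField) = q := Ideal.ker_algebraMap_residueField q
  have hF' : F ∈ RingHom.ker (algebraMap A q.ResidueField) := by rw [hk]; exact hF
  have h3 : (RingHom.ker (algebraMap A q.ResidueField)).toCotangent ⟨F, hF'⟩ = 0 := by
    apply h2
    rw [map_zero]
    exact h
  rw [Ideal.toCotangent_eq_zero] at h3
  change F ∈ (RingHom.ker (algebraMap A q.ResidueField)) ^ 2 at h3
  rwa [hk] at h3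

theorem exists_one_tmul {L : Type*} [CommRing L] [IsLocalRing L] {J : Type*} [AddCommGroup J] [Module L J]
    (x : ResidueField L ⊗[L] J) : ∃ y : J, x = 1 ⊗ₜ y := by
  induction x with
  | zero => exact ⟨0, by rw [tmul_zero]⟩
  | add x y hx hy =>
    obtain ⟨a, rfl⟩ := hx
    obtain ⟨b, rfl⟩ := hy
    exact ⟨a + b, by rw [tmul_add]⟩
  | tmul c y =>
    obtain ⟨c, rfl⟩ := residue_surjective c
    refine ⟨c • y, ?_⟩
    rw [tmul_smul, smul_tmul', Algebra.smul_def, mul_one]
    rfl

theorem tmul_eq_zero {A L κ J : Type*} [CommRing A] [CommRing L] [CommRing κ] [Algebra L κ] [AddCommGroup J]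
    [Module L J] (ρ : A →+* L) (I q : Ideal A) (j : I →+ J) (hj : ∀ (a : A) (b : I), j (a • b) = ρ a • j b)
    (hq : ∀ a ∈ q, algebraMap L κ (ρ a) = 0) (F : I) (hF : (F : A) ∈ q * I) : (1 : κ) ⊗ₜ[L] j F = 0 := by
  have h1 : F ∈ q • (⊤ : Submodule A I) := by
    rw [Submodule.mem_smul_top_iff]
    exact hF
  refine Submodule.smul_induction_on (p := fun F => (1 : κ) ⊗ₜ[L] j F = 0) h1 ?_ ?_
  · intro a ha b _
    rw [hj, tmul_smul, smul_tmul', Algebra.smul_def, mul_one, hq a ha, zero_tmul]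
  · intro x y hx hy
    rw [map_add, tmul_add, hx, hy, add_zero]

/-- At a non-smooth point of a closed subscheme of a smooth scheme over a perfect field there is an equation vanishing to
order two which is part of a minimal system of equations. -/
theorem exists_mem [Algebra.FormallySmooth k A] [Algebra.FiniteType k A] (I : Ideal A) (P : Ideal (A ⧸ I))
    [P.IsMaximal] (h : ¬ Algebra.IsSmoothAt k P) :
    ∃ F ∈ I, F ∈ (P.comap (Ideal.Quotient.mk I)) ^ 2 ∧ F ∉ P.comap (Ideal.Quotient.mk I) * I := by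
  have hq : (P.comap (Ideal.Quotient.mk I)).IsMaximal := Ideal.comap_isMaximal_of_surjective _ Ideal.Quotient.mk_surjective
  have hIq : I ≤ (P.comap (Ideal.Quotient.mk I)) := fun a ha => by
    rw [Ideal.mem_comap, Ideal.Quotient.eq_zero_iff_mem.2 ha]
    exact P.zero_mem
  have : IsNoetherianRing A := Algebra.FiniteType.isNoetherianRing k A
  have hsm : Algebra.IsSmoothAt k (P.comap (Ideal.Quotient.mk I)) :=
    (inferInstance : Algebra.FormallySmooth k (Localization.AtPrime (P.comap (Ideal.Quotient.mk I))))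
  obtain ⟨ψ, hψ, hiff⟩ := K151.JacCrit.exists_psi k I P hsm
  rw [hiff, injective_iff_map_eq_zero] at h
  push Not at h
  obtain ⟨x, hx, hx0⟩ := h
  obtain ⟨⟨y, hy⟩, rfl⟩ := exists_one_tmul x
  have hy' : y ∈ I.map (algebraMap A (Localization.AtPrime (P.comap (Ideal.Quotient.mk I)))) := by
    rw [← K151.JacCrit.ker_locMap I P]
    exact hy
  rw [IsLocalization.mem_map_algebraMap_iff (P.comap (Ideal.Quotient.mk I)).primeCompl] at hy'
  obtain ⟨⟨⟨F, hF⟩, ⟨s, hs⟩⟩, hFs⟩ := hy'
  change y * algebraMap A _ s = algebraMap A _ F at hFs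
  have hmem : ∀ a ∈ I, algebraMap A (Localization.AtPrime (P.comap (Ideal.Quotient.mk I))) a ∈
      RingHom.ker (K151.JacCrit.locMap I P) := fun a ha => by
    rw [K151.JacCrit.ker_locMap]
    exact Ideal.mem_map_of_mem _ ha
  let j : I →+ RingHom.ker (K151.JacCrit.locMap I P) :=
    { toFun := fun b => ⟨algebraMap A _ b, hmem b b.2⟩
      map_zero' := Subtype.ext (map_zero (algebraMap A _))
      map_add' := fun a b => Subtype.ext (map_add (algebraMap A _) _ _) }
  have hsy : algebraMap A (Localization.AtPrime (P.comap (Ideal.Quotient.mk I))) s •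
      (⟨y, hy⟩ : RingHom.ker (K151.JacCrit.locMap I P)) = j ⟨F, hF⟩ := by
    apply Subtype.ext
    exact (mul_comm _ _).trans hFs
  have hsx : algebraMap (Localization.AtPrime (P.comap (Ideal.Quotient.mk I))) (P.comap (Ideal.Quotient.mk I)).ResidueField
      (algebraMap A (Localization.AtPrime (P.comap (Ideal.Quotient.mk I))) s) •
      ((1 : (P.comap (Ideal.Quotient.mk I)).ResidueField) ⊗ₜ[Localization.AtPrime (P.comap (Ideal.Quotient.mk I))]
        (⟨y, hy⟩ : RingHom.ker (K151.JacCrit.locMap I P))) =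
      (1 : (P.comap (Ideal.Quotient.mk I)).ResidueField) ⊗ₜ j ⟨F, hF⟩ := by
    rw [algebraMap_smul, ← tmul_smul, hsy]
  have hs0 : algebraMap (Localization.AtPrime (P.comap (Ideal.Quotient.mk I)))
      (P.comap (Ideal.Quotient.mk I)).ResidueField
      (algebraMap A (Localization.AtPrime (P.comap (Ideal.Quotient.mk I))) s) ≠ 0 := by
    rw [← IsScalarTower.algebraMap_apply A (Localization.AtPrime (P.comap (Ideal.Quotient.mk I)))
      (P.comap (Ideal.Quotient.mk I)).ResidueField, Ne, ← RingHom.mem_ker, Ideal.ker_algebraMap_residueField]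
    exact hs
  refine ⟨F, hF, ?_, ?_⟩
  · refine mem_sq_of_D (k := k) (hIq hF) ?_
    rw [← hψ F (hmem F hF)]
    have h1 := congrArg ψ hsx
    rw [map_smul, hx, smul_zero] at h1
    exact h1.symm
  · intro hqI
    have h1 := tmul_eq_zero (κ := (P.comap (Ideal.Quotient.mk I)).ResidueField)
      (algebraMap A (Localization.AtPrime (P.comap (Ideal.Quotient.mk I)))) I (P.comap (Ideal.Quotient.mk I)) j
      (fun a b => Subtype.ext (map_mul (algebraMap A _) _ _)) (fun a ha => by
        rw [← IsScalarTower.algebraMap_apply A (Localization.AtPrime (P.comap (Ideal.Quotient.mk I)))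
          (P.comap (Ideal.Quotient.mk I)).ResidueField, ← RingHom.mem_ker, Ideal.ker_algebraMap_residueField]
        exact ha) ⟨F, hF⟩ hqI
    rw [← hsx] at h1
    rcases smul_eq_zero.1 h1 with h2 | h2
    · exact hs0 h2
    · exact hx0 h2

end

section

variable {A : Type u} [CommRing A]

/-- Linear forms on a projective conormal module separate. -/
theorem exists_dual (I : Ideal A) [Module.Projective (A ⧸ I) I.Cotangent] (P : Ideal (A ⧸ I)) {F : A} (hF : F ∈ I)
    (h : F ∉ P.comap (Ideal.Quotient.mk I) * I) : ∃ ψ : I →ₗ[A] A ⧸ I, ψ ⟨F, hF⟩ ∉ P := by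
  obtain ⟨s, hs⟩ := Module.projective_def.1 (inferInstance : Module.Projective (A ⧸ I) I.Cotangent)
  by_contra hcon
  push Not at hcon
  apply h
  have h1 : ∀ m : I.Cotangent, s (I.toCotangent ⟨F, hF⟩) m ∈ P := by
    intro m
    exact hcon (((Finsupp.lapply m ∘ₗ s).restrictScalars A) ∘ₗ I.toCotangent)
  have h2 := hs (I.toCotangent ⟨F, hF⟩)
  rw [Finsupp.linearCombination_apply, Finsupp.sum] at h2
  have h3 : ∀ (m : I.Cotangent) (c : A ⧸ I), c ∈ P → ∃ G : I, I.toCotangent G = c • m ∧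
      (G : A) ∈ P.comap (Ideal.Quotient.mk I) * I := by
    intro m c hc
    obtain ⟨c, rfl⟩ := Ideal.Quotient.mk_surjective c
    obtain ⟨G, rfl⟩ := I.toCotangent_surjective m
    refine ⟨c • G, ?_, Ideal.mul_mem_mul hc G.2⟩
    rw [map_smul]
    rfl
  choose! G hG1 hG2 using h3
  let T : I := ∑ m ∈ (s (I.toCotangent ⟨F, hF⟩)).support, G m (s (I.toCotangent ⟨F, hF⟩) m)
  have hT : I.toCotangent T = I.toCotangent ⟨F, hF⟩ := by
    rw [map_sum]
    conv_rhs => rw [← h2]
    refine Finset.sum_congr rfl fun m _ => ?_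
    exact hG1 m _ (h1 m)
  have hT2 : (T : A) ∈ P.comap (Ideal.Quotient.mk I) * I := by
    have : (T : A) = ∑ m ∈ (s (I.toCotangent ⟨F, hF⟩)).support, (G m (s (I.toCotangent ⟨F, hF⟩) m) : A) :=
      Submodule.coe_sum _ _ _
    rw [this]
    exact Submodule.sum_mem _ fun m _ => hG2 m _ (h1 m)
  have hIq : I ≤ P.comap (Ideal.Quotient.mk I) := fun a ha => by
    rw [Ideal.mem_comap, Ideal.Quotient.eq_zero_iff_mem.2 ha]
    exact P.zero_mem
  have h4 : F - T ∈ I ^ 2 := by
    have := sub_eq_zero.2 hT.symm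
    rw [← map_sub, Ideal.toCotangent_eq_zero] at this
    exact this
  have h5 : F - T ∈ P.comap (Ideal.Quotient.mk I) * I := by
    rw [pow_two] at h4
    exact Ideal.mul_mono_left hIq h4
  have := add_mem h5 hT2
  rwa [sub_add_cancel] at this

/-- One linear form for finitely many points. -/
theorem exists_phi (I : Ideal A) [Module.Projective (A ⧸ I) I.Cotangent] (T : Finset (Ideal (A ⧸ I)))
    (hT : ∀ P ∈ T, P.IsMaximal) (F : Ideal (A ⧸ I) → A) (hF : ∀ P ∈ T, F P ∈ I)
    (h : ∀ P ∈ T, F P ∉ P.comap (Ideal.Quotient.mk I) * I) :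
    ∃ φ : I →ₗ[A] A ⧸ I, ∀ (P : Ideal (A ⧸ I)) (hP : P ∈ T), φ ⟨F P, hF P hP⟩ ∉ P := by
  classical
  have h1 : ∀ P : T, ∃ ψ : I →ₗ[A] A ⧸ I, ψ ⟨F P, hF P P.2⟩ ∉ (P : Ideal (A ⧸ I)) := fun P =>
    exists_dual I P.1 (hF P P.2) (h P P.2)
  choose ψ hψ using h1
  have h2 : ∀ P : T, ∃ e : A ⧸ I, ∀ Q : T, e - (if Q = P then 1 else 0) ∈ (Q : Ideal (A ⧸ I)) := by
    intro P
    refine Ideal.exists_forall_sub_mem_ideal (I := fun Q : T => (Q : Ideal (A ⧸ I))) ?_ _
    intro Q₁ Q₂ hne
    have h₁ := hT Q₁ Q₁.2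
    have h₂ := hT Q₂ Q₂.2
    exact (Ideal.isCoprime_iff_sup_eq).2 (Ideal.IsMaximal.coprime_of_ne h₁ h₂ fun h => hne (Subtype.ext h))
  choose e he using h2
  refine ⟨∑ P : T, LinearMap.mulLeft A (e P) ∘ₗ ψ P, fun P hP hmem => ?_⟩
  have hPm := hT P hP
  have hsum : (∑ Q : T, LinearMap.mulLeft A (e Q) ∘ₗ ψ Q) ⟨F P, hF P hP⟩ = ∑ Q : T, e Q * ψ Q ⟨F P, hF P hP⟩ := by
    rw [LinearMap.sum_apply]
    rfl
  rw [hsum, ← Finset.add_sum_erase _ _ (Finset.mem_univ (⟨P, hP⟩ : T))] at hmem
  have h3 : ∑ Q ∈ Finset.univ.erase (⟨P, hP⟩ : T), e Q * ψ Q ⟨F P, hF P hP⟩ ∈ P := by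
    refine Submodule.sum_mem _ fun Q hQ => Ideal.mul_mem_right _ _ ?_
    have := he Q ⟨P, hP⟩
    rw [if_neg, sub_zero] at this
    · exact this
    · exact fun h => (Finset.mem_erase.1 hQ).1 h.symm
  have h4 := (Ideal.add_mem_iff_left _ h3).1 hmem
  have h5 := he ⟨P, hP⟩ ⟨P, hP⟩
  rw [if_pos rfl] at h5
  rcases hPm.isPrime.mem_or_mem h4 with h6 | h6
  · apply hPm.ne_top
    rw [Ideal.eq_top_iff_one]
    have := P.sub_mem h6 h5
    rwa [sub_sub_cancel] at this
  · exact hψ ⟨P, hP⟩ h6

end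

end K693.Dens
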