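import Groth.Agent.CurvSt.K902.CurveLift
import Groth.Agent.CurvSt.K693.DensAff

/-!
# First order smoothing of projective curves with isolated lci singularities
-/

set_option autoImplicit false

universe u

open CategoryTheory CategoryTheory.Limits AlgebraicGeometry IsLocalRing

namespace K693.Dens

open K902.LiftGlue

/-- **Gluing of lifts** (as `K902.LiftGlue.hasFlatLift_of_two`, keeping the two open subschemes). -/
theorem exists_glue {S₀ S X₀ : Scheme.{u}} [IsAffine S] (i : S₀ ⟶ S) (hi : MoreMor.IsFirstOrderThickening i)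
    (f₀ : X₀ ⟶ S₀) (U₁ U₂ : X₀.Opens) (hU : U₁ ⊔ U₂ = ⊤) (hA : IsAffineOpen (U₁ ⊓ U₂))
    (hsm : Smooth ((U₁ ⊓ U₂).ι ≫ f₀)) {Y₁ Y₂ : Scheme.{u}} {y₁ : Y₁ ⟶ S} {y₂ : Y₂ ⟶ S}
    {j₁ : (U₁ : Scheme.{u}) ⟶ Y₁} {j₂ : (U₂ : Scheme.{u}) ⟶ Y₂} (sq1 : IsPullback j₁ (U₁.ι ≫ f₀) y₁ i)
    (hf1 : Flat y₁) (sq2 : IsPullback j₂ (U₂.ι ≫ f₀) y₂ i) (hf2 : Flat y₂) :
    ∃ (X : Scheme.{u}) (f : X ⟶ S) (j : X₀ ⟶ X) (o₁ : Y₁ ⟶ X) (o₂ : Y₂ ⟶ X), IsPullback j f₀ f i ∧ Flat f ∧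
      IsOpenImmersion o₁ ∧ IsOpenImmersion o₂ ∧ o₁ ≫ f = y₁ ∧ o₂ ≫ f = y₂ ∧ U₁.ι ≫ j = j₁ ≫ o₁ ∧
      U₂.ι ≫ j = j₂ ≫ o₂ := by
  have hci := hi.1.1
  let w₁ : (↑(U₁ ⊓ U₂) : Scheme.{u}) ⟶ U₁ := X₀.homOfLE inf_le_left
  let w₂ : (↑(U₁ ⊓ U₂) : Scheme.{u}) ⟶ U₂ := X₀.homOfLE inf_le_right
  have hw₁ : w₁ ≫ U₁.ι = (U₁ ⊓ U₂).ι := Scheme.homOfLE_ι _ _
  have hw₂ : w₂ ≫ U₂.ι = (U₁ ⊓ U₂).ι := Scheme.homOfLE_ι _ _
  obtain ⟨V₁, a₁, r1⟩ := exists_restrict hi.1 sq1 w₁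
  obtain ⟨V₂, a₂, r2⟩ := exists_restrict hi.1 sq2 w₂
  have t1 : IsPullback a₁ ((U₁ ⊓ U₂).ι ≫ f₀) (V₁.ι ≫ y₁) i := by
    have := r1.paste_vert sq1
    rwa [← Category.assoc, hw₁] at this
  have t2 : IsPullback a₂ ((U₁ ⊓ U₂).ι ≫ f₀) (V₂.ι ≫ y₂) i := by
    have := r2.paste_vert sq2
    rwa [← Category.assoc, hw₂] at this
  have : IsAffine (↑(U₁ ⊓ U₂) : Scheme.{u}) := hA
  have ha2 := isFirstOrderThickening_of_isPullback t2 hi
  have hV2 : IsAffine (V₂ : Scheme.{u}) := by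
    have := ha2.1.1
    exact Groth.Agent.S0440.result a₂ ha2.1.2.surj
  have hsm1 : Smooth (V₁.ι ≫ y₁) := by
    have : Flat ((V₁.ι ≫ y₁) ≫ 𝟙 S) := by
      rw [Category.comp_id]
      infer_instance
    refine (Groth.Agent.S1321.result a₁ i i ((U₁ ⊓ U₂).ι ≫ f₀) (V₁.ι ≫ y₁) (𝟙 S₀) (𝟙 S) (isFiniteOrder hi)
      (by rw [Category.comp_id, Category.comp_id]; exact t1) (IsPullback.of_vert_isIso ⟨by simp⟩) t1.w).1 hsm
  obtain ⟨θ, hθ1, hθ2⟩ := exists_lift_smooth (V₁.ι ≫ y₁) a₂ ha2 a₁ (V₂.ι ≫ y₂) (by rw [t2.w, t1.w])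
  have hθ : IsIso θ := by
    have h3 : Flat (θ ≫ V₁.ι ≫ y₁) := by
      rw [hθ2]
      infer_instance
    exact (Groth.Agent.S1318.result a₂ a₁ i (𝟙 _) θ ((U₁ ⊓ U₂).ι ≫ f₀) (V₁.ι ≫ y₁) (isFiniteOrder hi)
      (by rw [Category.id_comp, hθ2]; exact t2) t1 (by rw [Category.id_comp, hθ1])).1 inferInstance
  obtain ⟨X, o₁, o₂, ho1, ho2, hpo, hpb, hcov⟩ := Groth.Agent.Flat2C.GlueSep.exists_pushout (θ ≫ V₁.ι) V₂.ι
  let f : X ⟶ S := hpo.desc y₁ y₂ (by rw [Category.assoc, hθ2])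
  have hf₁ : o₁ ≫ f = y₁ := hpo.inl_desc _ _ _
  have hf₂ : o₂ ≫ f = y₂ := hpo.inr_desc _ _ _
  have hW1 : a₂ ≫ θ ≫ V₁.ι = w₁ ≫ j₁ := by rw [← Category.assoc, hθ1, r1.w]
  obtain ⟨j, hj1, hj2⟩ := Groth.Agent.Flat2C.NagataCore.exists_desc U₁ U₂ hU (j₁ ≫ o₁) (j₂ ≫ o₂) (by
    change w₁ ≫ j₁ ≫ o₁ = w₂ ≫ j₂ ≫ o₂
    calc w₁ ≫ j₁ ≫ o₁ = (a₂ ≫ θ ≫ V₁.ι) ≫ o₁ := by rw [hW1, Category.assoc]
      _ = a₂ ≫ V₂.ι ≫ o₂ := by rw [Category.assoc, ← hpo.w]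
      _ = w₂ ≫ j₂ ≫ o₂ := by rw [← Category.assoc, r2.w, Category.assoc])
  have hjf : j ≫ f = f₀ ≫ i := by
    apply Groth.Agent.Flat2C.NagataCore.hom_ext_of_cover U₁ U₂ hU
    · rw [← Category.assoc, hj1, Category.assoc, hf₁, sq1.w, Category.assoc]
    · rw [← Category.assoc, hj2, Category.assoc, hf₂, sq2.w, Category.assoc]
  refine ⟨X, f, j, o₁, o₂, ?_, ?_, ho1, ho2, hf₁, hf₂, hj1, hj2⟩
  · refine isPullback_glue (u₁ := U₁.ι) (u₂ := U₂.ι) ?_ (w₁ := w₁) (w₂ := w₂) (hw₁.trans hw₂.symm) hcov hpb hjf hj1 hj2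
      hW1 r2 ?_ ?_
    · intro x
      have hx : x ∈ U₁ ⊔ U₂ := by rw [hU]; trivial
      rw [Scheme.Opens.range_ι, Scheme.Opens.range_ι]
      exact hx
    · rw [hf₁]; exact sq1
    · rw [hf₂]; exact sq2
  · have hs : (⨆ b : Bool, (if b then o₁.opensRange else o₂.opensRange)) = (⊤ : X.Opens) := by
      rw [eq_top_iff]
      intro x _
      rcases hcov x with h | h
      · exact TopologicalSpace.Opens.mem_iSup.2 ⟨true, h⟩
      · exact TopologicalSpace.Opens.mem_iSup.2 ⟨false, h⟩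
    rw [IsZariskiLocalAtSource.iff_of_iSup_eq_top (P := @Flat) _ hs]
    intro b
    cases b
    · have : (if (false : Bool) = true then o₁.opensRange else o₂.opensRange).ι ≫ f =
          o₂.isoOpensRange.inv ≫ y₂ := by
        rw [← hf₂, ← Category.assoc, Scheme.Hom.isoOpensRange_inv_comp]
        rfl
      rw [this]
      infer_instance
    · have : (if (true : Bool) = true then o₁.opensRange else o₂.opensRange).ι ≫ f =
          o₁.isoOpensRange.inv ≫ y₁ := by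
        rw [← hf₁, ← Category.assoc, Scheme.Hom.isoOpensRange_inv_comp]
        rfl
      rw [this]
      infer_instance

theorem isFirstOrderThickening_iD (k : Type u) [Field k] : MoreMor.IsFirstOrderThickening (iD k) := by
  have hs : Function.Surjective (CommRingCat.ofHom (TrivSqZeroExt.fstHom k k k).toRingHom).hom :=
    fun a => ⟨(TrivSqZeroExt.inl a : DualNumber k), rfl⟩
  have hk : RingHom.ker (CommRingCat.ofHom (TrivSqZeroExt.fstHom k k k).toRingHom).hom ^ 2 = ⊥ := by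
    rw [eq_bot_iff, pow_two, Ideal.mul_le]
    intro a ha b hb
    have ha' : TrivSqZeroExt.fst a = 0 := ha
    have hb' : TrivSqZeroExt.fst b = 0 := hb
    rw [Ideal.mem_bot]
    apply TrivSqZeroExt.ext
    · change TrivSqZeroExt.fst a * TrivSqZeroExt.fst b = 0
      rw [ha', zero_mul]
    · change TrivSqZeroExt.snd (a * b) = 0
      rw [TrivSqZeroExt.snd_mul, ha', hb', zero_smul, MulOpposite.op_zero, zero_smul, add_zero]
  refine ⟨⟨IsClosedImmersion.spec_of_surjective _ hs, ?_⟩, ?_⟩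
  · exact Groth.Agent.UnramB.FirstOrderNbhd.surjective_SpecMap_of_ker_sq _ hs hk
  · rw [← pow_two]
    exact Groth.Agent.UnramB.FirstOrderNbhd.ker_sq_SpecMap _ hk

/-- **First order smoothing.** -/
theorem exists_first_order {k : Type u} [Field k] [PerfectField k] {X₀ : Scheme.{u}}
    (f₀ : X₀ ⟶ Spec (CommRingCat.of k)) [IsProper f₀] [LocallyOfFinitePresentation f₀]
    (hf : RelProj.IsHProjective f₀) (hsyn : Synt.IsSyntomicMor f₀)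
    (hdim : topologicalKrullDim (f₀.fiber (IsLocalRing.closedPoint (CommRingCat.of k))) ≤ 1)
    (hns : {x : X₀ | x ∉ f₀.smoothLocus}.Finite) :
    ∃ (X : Scheme.{u}) (f : X ⟶ Spec (CommRingCat.of (DualNumber k))) (j : X₀ ⟶ X), IsPullback j f₀ f (iD k) ∧
      Flat f ∧ ∀ x : X₀, x ∉ f₀.smoothLocus → SqAt f (j x) (epsD k) := by
  obtain ⟨U₁, U₂, hU₁, hU₂, hU, hU₁₂, hsm⟩ :=
    K902.CurveCover.exists_cover (A := CommRingCat.of k) f₀ hf hdim (hns.subset fun x hx => hx.2)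
  have hlift : ∀ U : X₀.Opens, IsAffineOpen U → ∃ (Y : Scheme.{u}) (y : Y ⟶ Spec (CommRingCat.of (DualNumber k)))
      (j : (U : Scheme.{u}) ⟶ Y), IsPullback j (U.ι ≫ f₀) y (iD k) ∧ Flat y ∧
      ∀ x : U, x.1 ∉ f₀.smoothLocus → SqAt y (j x) (epsD k) := by
    intro U hU
    have : IsAffine U := hU
    have h1 : ∀ x : U, x ∈ (U.ι ≫ f₀).smoothLocus ↔ x.1 ∈ f₀.smoothLocus := fun x => by
      rw [← Scheme.Hom.preimage_smoothLocus_eq]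
      rfl
    obtain ⟨Y, y, j, sq, hfl, hsq⟩ := exists_affine_lift (U.ι ≫ f₀)
      (K563.SchNhd.isSyntomicMor_openImmersion_comp _ _ hsyn) (by
        refine (hns.preimage (f := U.ι) (U.ι.injective.injOn)).subset ?_
        intro x hx hx'
        exact hx ((h1 x).2 hx'))
    exact ⟨Y, y, j, sq, hfl, fun x hx => hsq x fun h => hx ((h1 x).1 h)⟩
  obtain ⟨Y₁, y₁, j₁, sq1, hf1, hs1⟩ := hlift U₁ hU₁
  obtain ⟨Y₂, y₂, j₂, sq2, hf2, hs2⟩ := hlift U₂ hU₂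
  have hsm' : Smooth ((U₁ ⊓ U₂).ι ≫ f₀) := by
    rw [← Scheme.Hom.smoothLocus_eq_top_iff, ← Scheme.Hom.preimage_smoothLocus_eq, eq_top_iff]
    intro x _
    exact hsm (inf_le_right (a := U₁) x.2)
  obtain ⟨X, f, j, o₁, o₂, sq, hfl, ho₁, ho₂, e₁, e₂, c₁, c₂⟩ :=
    exists_glue (iD k) (isFirstOrderThickening_iD k) f₀ U₁ U₂ hU hU₁₂ hsm' sq1 hf1 sq2 hf2
  refine ⟨X, f, j, sq, hfl, fun x hx => ?_⟩
  have hxU : x ∈ U₁ ⊔ U₂ := by rw [hU]; trivial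
  rcases hxU with h | h
  · have h1 : j x = o₁ (j₁ ⟨x, h⟩) := by
      have := congrArg (fun m => m (⟨x, h⟩ : U₁)) c₁
      exact this
    rw [h1, ← sqAt_openImmersion, e₁]
    exact hs1 ⟨x, h⟩ hx
  · have h1 : j x = o₂ (j₂ ⟨x, h⟩) := by
      have := congrArg (fun m => m (⟨x, h⟩ : U₂)) c₂
      exact this
    rw [h1, ← sqAt_openImmersion, e₂]
    exact hs2 ⟨x, h⟩ hx

end K693.Dens
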