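import Mathlib.AlgebraicGeometry.Stalk
import Mathlib.AlgebraicGeometry.OpenImmersion

/-!
# The local ring of a scheme over an affine scheme as an algebra

`st f x : R →+* O_{X,x}` for `f : X ⟶ Spec R`, and `SqAt f x a`: the image of `a` is in the square of the maximal ideal.
-/

set_option autoImplicit false

universe u

open CategoryTheory AlgebraicGeometry IsLocalRing

namespace K693.Dens

variable {R : CommRingCat.{u}} {X Y : Scheme.{u}}

/-- The structure map `R →+* O_{X,x}`. -/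
noncomputable def st (f : X ⟶ Spec R) (x : X) : R ⟶ X.presheaf.stalk x :=
  Spec.preimage (X.fromSpecStalk x ≫ f)

theorem map_st (f : X ⟶ Spec R) (x : X) : Spec.map (st f x) = X.fromSpecStalk x ≫ f :=
  Spec.map_preimage _

theorem st_comp (g : Y ⟶ X) (f : X ⟶ Spec R) (y : Y) : st (g ≫ f) y = st f (g y) ≫ g.stalkMap y := by
  apply Spec.map_injective
  rw [map_st, Spec.map_comp, map_st, Scheme.SpecMap_stalkMap_fromSpecStalk_assoc]

theorem st_comp_right (f : X ⟶ Spec R) {S : CommRingCat.{u}} (φ : S ⟶ R) (x : X) :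
    st (f ≫ Spec.map φ) x = φ ≫ st f x := by
  apply Spec.map_injective
  rw [map_st, Spec.map_comp, map_st, Category.assoc]

theorem st_Spec {E : CommRingCat.{u}} (φ : R ⟶ E) (x : Spec E) :
    st (Spec.map φ) x = φ ≫ (StructureSheaf.toStalk E x : E ⟶ (Spec E).presheaf.stalk x) := by
  apply Spec.map_injective
  rw [map_st, Spec.fromSpecStalk_eq']
  exact (Spec.map_comp _ _).symm

/-- The image of `a` in `O_{X,x}` lies in the square of the maximal ideal. -/
def SqAt (f : X ⟶ Spec R) (x : X) (a : R) : Prop :=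
  (st f x).hom a ∈ maximalIdeal (X.presheaf.stalk x) ^ 2

theorem SqAt.comp {f : X ⟶ Spec R} (g : Y ⟶ X) {y : Y} {a : R} (h : SqAt f (g y) a) : SqAt (g ≫ f) y a := by
  rw [SqAt, st_comp]
  have h1 := Ideal.mem_map_of_mem (g.stalkMap y).hom h
  rw [Ideal.map_pow] at h1
  have h2 : IsLocalHom (g.stalkMap y).hom := inferInstance
  exact Ideal.pow_right_mono (((IsLocalRing.local_hom_TFAE (g.stalkMap y).hom).out 0 2).1 h2) 2 h1

theorem sqAt_comp_right {f : X ⟶ Spec R} {S : CommRingCat.{u}} (φ : S ⟶ R) {x : X} {a : S} :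
    SqAt (f ≫ Spec.map φ) x a ↔ SqAt f x (φ.hom a) := by
  rw [SqAt, st_comp_right]
  rfl

theorem sqAt_openImmersion {f : X ⟶ Spec R} (g : Y ⟶ X) [IsOpenImmersion g] {y : Y} {a : R} :
    SqAt (g ≫ f) y a ↔ SqAt f (g y) a := by
  refine ⟨fun h => ?_, SqAt.comp g⟩
  rw [SqAt, st_comp] at h
  have h1 := Ideal.mem_map_of_mem (inv (g.stalkMap y)).hom h
  rw [Ideal.map_pow] at h1
  have h2 : (inv (g.stalkMap y)).hom ((st f (g y) ≫ g.stalkMap y).hom a) = (st f (g y)).hom a := by
    rw [← CommRingCat.comp_apply, Category.assoc, IsIso.hom_inv_id, Category.comp_id]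
  rw [h2] at h1
  have h3 : IsLocalHom (inv (g.stalkMap y)).hom := isLocalHom_of_isIso _
  exact Ideal.pow_right_mono (((IsLocalRing.local_hom_TFAE (inv (g.stalkMap y)).hom).out 0 2).1 h3) 2 h1

end K693.Dens
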