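import Groth.Agent.AlgSp.K634.Quot
import Groth.Agent.CurvSt.K693.DensSt

/-!
# The condition `SqAt` can be checked modulo the square
-/

set_option autoImplicit false
set_option backward.isDefEq.respectTransparency false
set_option backward.isDefEq.respectTransparency.types false

universe u

open CategoryTheory CategoryTheory.Limits AlgebraicGeometry IsLocalRing

namespace K693.Dens

theorem sqAt_Spec_iff {E : Type u} [CommRing E] {R : CommRingCat.{u}} (φ : R ⟶ CommRingCat.of E)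
    (x : Spec (CommRingCat.of E)) (a : R) :
    SqAt (Spec.map φ) x a ↔ ∃ s : E, s ∉ x.asIdeal ∧ s * φ.hom a ∈ x.asIdeal ^ 2 := by
  rw [SqAt, st_Spec]
  let _ : Algebra E ((Spec (CommRingCat.of E)).presheaf.stalk x) := StructureSheaf.stalkAlgebra E x
  have hloc : IsLocalization.AtPrime ((Spec (CommRingCat.of E)).presheaf.stalk x) x.asIdeal :=
    inferInstanceAs (IsLocalization.AtPrime ((Spec.structureSheaf E).presheaf.stalk x) x.asIdeal)
  change algebraMap E ((Spec (CommRingCat.of E)).presheaf.stalk x) (φ.hom a) ∈ _ ↔ _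
  rw [← IsLocalization.AtPrime.map_eq_maximalIdeal x.asIdeal ((Spec (CommRingCat.of E)).presheaf.stalk x),
    ← Ideal.map_pow, IsLocalization.algebraMap_mem_map_algebraMap_iff x.asIdeal.primeCompl]
  rfl

theorem sqAt_of_isPullback {R : Type u} [CommRing R] (t : R) {X C₁ : Scheme.{u}} (f : X ⟶ Spec (CommRingCat.of R))
    (q₁ : C₁ ⟶ Spec (CommRingCat.of (R ⧸ Ideal.span {t ^ 2}))) (i₁ : C₁ ⟶ X)
    (sq : IsPullback i₁ q₁ f (Spec.map (CommRingCat.ofHom (Ideal.Quotient.mk (Ideal.span {t ^ 2}))))) (p₁ : C₁)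
    (h : SqAt q₁ p₁ (Ideal.Quotient.mk (Ideal.span {t ^ 2}) t)) : SqAt f (i₁ p₁) t := by
  obtain ⟨_, ⟨V, hV, rfl⟩, hpV, -⟩ :=
    X.isBasis_affineOpens.exists_subset_of_mem_open (Set.mem_univ (i₁ p₁)) isOpen_univ
  obtain ⟨φ, hφ⟩ := Spec.map_surjective (hV.fromSpec ≫ f)
  have hVo : IsOpenImmersion hV.fromSpec := hV.isOpenImmersion_fromSpec
  obtain ⟨b, hb⟩ : i₁ p₁ ∈ Set.range hV.fromSpec := by rw [hV.range_fromSpec]; exact hpV
  have sqB := K634.Quot.isPullback_quot φ.hom (Ideal.span {t ^ 2})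
  let l : Spec (CommRingCat.of (Γ(X, V) ⧸ (Ideal.span {t ^ 2}).map φ.hom)) ⟶ C₁ :=
    sq.lift (Spec.map (CommRingCat.ofHom (Ideal.Quotient.mk ((Ideal.span {t ^ 2}).map φ.hom))) ≫ hV.fromSpec)
      (Spec.map (CommRingCat.ofHom (K634.Quot.qmap φ.hom (Ideal.span {t ^ 2})))) (by
        rw [Category.assoc, ← hφ]
        exact sqB.w)
  have hl1 : l ≫ i₁ = _ := sq.lift_fst _ _ _
  have hl2 : l ≫ q₁ = _ := sq.lift_snd _ _ _
  have sqT : IsPullback (Spec.map (CommRingCat.ofHom (Ideal.Quotient.mk ((Ideal.span {t ^ 2}).map φ.hom)))) l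
      hV.fromSpec i₁ := by
    refine IsPullback.of_bot ?_ hl1.symm sq
    rw [hl2, ← hφ]
    exact sqB
  have hlo : IsOpenImmersion l := MorphismProperty.of_isPullback sqT inferInstance
  obtain ⟨b₁, hb₁, hb₁'⟩ := Scheme.exists_preimage_of_isPullback sqT b p₁ hb
  have h1 : SqAt (Spec.map (CommRingCat.ofHom (K634.Quot.qmap φ.hom (Ideal.span {t ^ 2})))) b₁
      (Ideal.Quotient.mk (Ideal.span {t ^ 2}) t) := by
    rw [← hl2, sqAt_openImmersion, hb₁']
    exact h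
  rw [sqAt_Spec_iff] at h1
  obtain ⟨s, hs, hst⟩ := h1
  obtain ⟨s, rfl⟩ := Ideal.Quotient.mk_surjective s
  have hbb : b.asIdeal = b₁.asIdeal.comap (Ideal.Quotient.mk ((Ideal.span {t ^ 2}).map φ.hom)) := by
    rw [← hb₁]
    rfl
  have ht2 : φ.hom t ^ 2 ∈ b.asIdeal := by
    rw [hbb, Ideal.mem_comap]
    have : Ideal.Quotient.mk ((Ideal.span {t ^ 2}).map φ.hom) (φ.hom t ^ 2) = 0 := by
      rw [Ideal.Quotient.eq_zero_iff_mem, ← map_pow]
      exact Ideal.mem_map_of_mem _ (Ideal.subset_span rfl)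
    rw [this]
    exact b₁.asIdeal.zero_mem
  have ht : φ.hom t ∈ b.asIdeal := b.2.mem_of_pow_mem 2 ht2
  rw [← hb, ← sqAt_openImmersion, ← hφ]
  refine (sqAt_Spec_iff φ b t).2 ⟨s, ?_, ?_⟩
  · rw [hbb]
    exact hs
  · have h2 : Ideal.Quotient.mk ((Ideal.span {t ^ 2}).map φ.hom) (s * φ.hom t) ∈ b₁.asIdeal ^ 2 := hst
    have h3 : b₁.asIdeal = b.asIdeal.map (Ideal.Quotient.mk ((Ideal.span {t ^ 2}).map φ.hom)) := by
      rw [hbb, Ideal.map_comap_of_surjective _ Ideal.Quotient.mk_surjective]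
    rw [h3, ← Ideal.map_pow, Ideal.mem_map_iff_of_surjective _ Ideal.Quotient.mk_surjective] at h2
    obtain ⟨y, hy, hyt⟩ := h2
    rw [Ideal.Quotient.eq] at hyt
    have h4 : (Ideal.span {t ^ 2}).map φ.hom ≤ b.asIdeal ^ 2 := by
      rw [Ideal.map_span, Set.image_singleton, Ideal.span_singleton_le_iff_mem, map_pow]
      exact Ideal.pow_mem_pow ht 2
    have h5 := sub_mem hy (h4 hyt)
    rwa [sub_sub_cancel] at h5

end K693.Dens
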