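import Groth.Agent.S8916
import Groth.Agent.Synt.K563.NodFwd
import Groth.Agent.CurvSt.K693.DensSt
import Mathlib.RingTheory.Unramified.LocalRing

/-!
# A nodal family whose total space is regular at the nodes of the closed fibre is generically smooth

`smooth_of_sqAt`: `R` Noetherian local, `f : X ⟶ Spec R` a proper nodal family such that the maximal ideal of `R` is contained
in the square of the maximal ideal of `O_{X,p}` for all non-smooth points `p` of the closed fibre: `f` is smooth outside the
closed fibre.
-/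

set_option autoImplicit false
set_option backward.isDefEq.respectTransparency false
set_option backward.isDefEq.respectTransparency.types false

universe u

open CategoryTheory CategoryTheory.Limits AlgebraicGeometry IsLocalRing

namespace K693.Dens

theorem eq_of_le_of_sq {R B : Type u} [CommRing R] [IsLocalRing R] [IsNoetherianRing R] [CommRing B] [Algebra R B]
    [Algebra.FiniteType R B] [Algebra.FormallyUnramified R B] (q : Ideal B) [q.IsPrime]
    (hq : maximalIdeal R ≤ q.comap (algebraMap R B)) (L : Type u) [CommRing L] [IsLocalRing L] [Algebra B L]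
    [IsLocalization.AtPrime L q] (h : ∀ a ∈ maximalIdeal R, algebraMap B L (algebraMap R B a) ∈ maximalIdeal L ^ 2)
    (q' : Ideal B) [q'.IsPrime] (hle : q' ≤ q) : q' = q := by
  let _ : Algebra R L := ((algebraMap B L).comp (algebraMap R B)).toAlgebra
  have htow : IsScalarTower R B L := IsScalarTower.of_algebraMap_eq fun _ => rfl
  have hB : IsNoetherianRing B := Algebra.FiniteType.isNoetherianRing R B
  have hL : IsNoetherianRing L := IsLocalization.isNoetherianRing q.primeCompl L hB
  have h1 : Algebra.EssFiniteType B L := Algebra.EssFiniteType.of_isLocalization L q.primeCompl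
  have h2 : Algebra.EssFiniteType R L := Algebra.EssFiniteType.comp R B L
  have h3 : Algebra.FormallyUnramified B L := Algebra.FormallyUnramified.of_isLocalization q.primeCompl
  have h4 : Algebra.FormallyUnramified R L := Algebra.FormallyUnramified.comp R B L
  have hqm : ∀ b : B, b ∈ q → algebraMap B L b ∈ maximalIdeal L := fun b hb => by
    have := Ideal.mem_map_of_mem (algebraMap B L) hb
    rwa [IsLocalization.AtPrime.map_eq_maximalIdeal q L] at this
  have hloc : IsLocalHom (algebraMap R L) := by
    refine ⟨fun a ha => ?_⟩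
    by_contra hn
    exact (mem_maximalIdeal _).1 (hqm _ (hq ((mem_maximalIdeal a).2 hn))) ha
  have h5 : (maximalIdeal R).map (algebraMap R L) = maximalIdeal L := Algebra.FormallyUnramified.map_maximalIdeal
  have h6 : maximalIdeal L ≤ maximalIdeal L • maximalIdeal L := by
    conv_lhs => rw [← h5]
    rw [Ideal.map_le_iff_le_comap, smul_eq_mul, ← pow_two]
    exact fun a ha => h a ha
  have h7 : maximalIdeal L = ⊥ :=
    Submodule.eq_bot_of_le_smul_of_le_jacobson_bot (maximalIdeal L) (maximalIdeal L) (IsNoetherian.noetherian _) h6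
      (IsLocalRing.maximalIdeal_le_jacobson _)
  refine le_antisymm hle fun b hb => ?_
  have h8 := hqm b hb
  rw [h7, Ideal.mem_bot, IsLocalization.map_eq_zero_iff q.primeCompl] at h8
  obtain ⟨⟨s, hs⟩, hsb⟩ := h8
  have h9 : s * b ∈ q' := by
    rw [show s * b = 0 from hsb]
    exact q'.zero_mem
  rcases Ideal.IsPrime.mem_or_mem ‹q'.IsPrime› h9 with h | h
  · exact absurd (hle h) hs
  · exact h

/-- **Generic smoothness of a nodal family with regular total space.** -/
theorem smooth_of_sqAt {R : Type u} [CommRing R] [IsLocalRing R] [IsNoetherianRing R] {X : Scheme.{u}}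
    (f : X ⟶ Spec (CommRingCat.of R)) [IsProper f] (hf : Curv2.IsNodalFamily f)
    (h : ∀ p : X, f p = closedPoint R → (¬ ∃ U : X.Opens, p ∈ U ∧ Smooth (U.ι ≫ f)) →
      ∀ a ∈ maximalIdeal R, SqAt f p a) (x : X) (hx : f x ≠ closedPoint R) :
    ∃ U : X.Opens, x ∈ U ∧ Smooth (U.ι ≫ f) := by
  by_contra hns
  have i1 : Flat f := hf.1
  have i2 : LocallyOfFinitePresentation f := hf.2.1
  let J := Fitt.sheafIdeal (Omega.sheaf f) 1
  have hsupp : ∀ y : X, y ∈ J.support ↔ ¬ ∃ U : X.Opens, y ∈ U ∧ Smooth (U.ι ≫ f) :=
    Groth.Agent.S8916.result f 1 (fun s => by exact_mod_cast (hf.2.2 s).1)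
  have hunr : FormallyUnramified (J.subschemeι ≫ f) := K563.NodFwd.formallyUnramified_of_isNodalFamily f hf
  have hrange : Set.range J.subschemeι = (J.support : Set X) := J.range_subschemeι
  obtain ⟨z, hz⟩ : x ∈ Set.range J.subschemeι := by
    rw [hrange]
    exact (hsupp x).2 hns
  have hprop : IsProper (J.subschemeι ≫ f) := inferInstance
  -- a specialization in the closed fibre
  obtain ⟨z', hzz', hz'⟩ : ∃ z' : J.subscheme, z ⤳ z' ∧ (J.subschemeι ≫ f) z' = closedPoint R := by
    have hc : IsClosed ((J.subschemeι ≫ f) '' closure {z}) := (J.subschemeι ≫ f).isClosedMap _ isClosed_closure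
    have h1 : closedPoint R ∈ (J.subschemeι ≫ f) '' closure {z} := by
      have h2 : (J.subschemeι ≫ f) z ∈ (J.subschemeι ≫ f) '' closure {z} := ⟨z, subset_closure rfl, rfl⟩
      have h3 : (J.subschemeι ≫ f) z ⤳ closedPoint R := IsLocalRing.specializes_closedPoint _
      exact h3.mem_closed hc h2
    obtain ⟨z', h2, h3⟩ := h1
    exact ⟨z', specializes_iff_mem_closure.2 h2, h3⟩
  have hp := (hsupp (J.subschemeι z')).1 (by
    have : J.subschemeι z' ∈ Set.range J.subschemeι := ⟨z', rfl⟩
    rw [hrange] at this
    exact this)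
  have hsq : ∀ a ∈ maximalIdeal R, SqAt (J.subschemeι ≫ f) z' a := fun a ha =>
    SqAt.comp _ (h (J.subschemeι z') (by rw [← Scheme.Hom.comp_apply]; exact hz') hp a ha)
  -- an affine chart
  obtain ⟨_, ⟨V, hV, rfl⟩, hzV', -⟩ :=
    J.subscheme.isBasis_affineOpens.exists_subset_of_mem_open (Set.mem_univ z') isOpen_univ
  have hzV : z ∈ V := hzz'.mem_open V.2 hzV'
  obtain ⟨φ, hφ⟩ := Spec.map_surjective (hV.fromSpec ≫ J.subschemeι ≫ f)
  let _ : Algebra R Γ(J.subscheme, V) := φ.hom.toAlgebra
  have hVo : IsOpenImmersion hV.fromSpec := hV.isOpenImmersion_fromSpec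
  obtain ⟨b', hb'⟩ : z' ∈ Set.range hV.fromSpec := by rw [hV.range_fromSpec]; exact hzV'
  obtain ⟨b, hb⟩ : z ∈ Set.range hV.fromSpec := by rw [hV.range_fromSpec]; exact hzV
  have hbb : b ⤳ b' := by
    rw [← hV.fromSpec.isOpenEmbedding.isInducing.specializes_iff, hb, hb']
    exact hzz'
  have hle : b.asIdeal ≤ b'.asIdeal := (PrimeSpectrum.le_iff_specializes b b').2 hbb
  have hft : Algebra.FiniteType R Γ(J.subscheme, V) := by
    have h1 : LocallyOfFiniteType (Spec.map φ) := by rw [hφ]; infer_instance
    rw [HasRingHomProperty.Spec_iff (P := @LocallyOfFiniteType)] at h1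
    exact h1
  have hfu : Algebra.FormallyUnramified R Γ(J.subscheme, V) := by
    have h1 : FormallyUnramified (Spec.map φ) := by
      rw [hφ]
      exact MorphismProperty.comp_mem (W := @FormallyUnramified) _ _ inferInstance hunr
    rw [HasRingHomProperty.Spec_iff (P := @FormallyUnramified)] at h1
    exact h1
  have hfb' : (Spec.map φ) b' = closedPoint R := by
    rw [hφ, Scheme.Hom.comp_apply, hb']
    exact hz'
  have hq : maximalIdeal R ≤ b'.asIdeal.comap (algebraMap R Γ(J.subscheme, V)) := by
    have h1 : ((Spec.map φ) b').asIdeal = maximalIdeal R := by rw [hfb']; rfl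
    exact h1.ge
  have key : b.asIdeal = b'.asIdeal := by
    let _ : Algebra Γ(J.subscheme, V) ((Spec Γ(J.subscheme, V)).presheaf.stalk b') :=
      StructureSheaf.stalkAlgebra Γ(J.subscheme, V) b'
    have hloc : IsLocalization.AtPrime ((Spec Γ(J.subscheme, V)).presheaf.stalk b') b'.asIdeal :=
      inferInstanceAs (IsLocalization.AtPrime ((Spec.structureSheaf Γ(J.subscheme, V)).presheaf.stalk b') b'.asIdeal)
    refine eq_of_le_of_sq (R := R) b'.asIdeal hq ((Spec Γ(J.subscheme, V)).presheaf.stalk b') ?_ b.asIdeal hle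
    intro a ha
    have h1 : SqAt (Spec.map φ) b' a := by
      rw [hφ]
      refine SqAt.comp _ ?_
      rw [hb']
      exact hsq a ha
    rw [SqAt, st_Spec] at h1
    exact h1
  apply hx
  have h2 : b = b' := PrimeSpectrum.ext key
  rw [← hz, ← hb, h2, hb', ← Scheme.Hom.comp_apply]
  exact hz'

end K693.Dens
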