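import Groth.Agent.CurvSt.K693.DensPlan
import Groth.Agent.CurvSt.K693.DensGlue
import Groth.Agent.CurvSt.K693.DensSmooth
import Groth.Agent.CurvSt.K693.DensRed
import Groth.Agent.CurvSt.K896.MbarFam
import Groth.Agent.Resolve.K588.HProj
import Groth.Agent.S1551
import Mathlib.RingTheory.DualNumber

/-!
# First order smoothing of stable pointed curves

* `exists_smoothing` : over an algebraically closed field `K`, every stable `n`-pointed curve is the closed fibre of a stable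
  family over `K[ε]` such that no section over `K[ε]` passes through a non-smooth point; moreover `ε` is in the square of the
  maximal ideal at every non-smooth point.
-/

set_option autoImplicit false
set_option backward.isDefEq.respectTransparency false
set_option backward.isDefEq.respectTransparency.types false

universe u

open CategoryTheory CategoryTheory.Limits AlgebraicGeometry IsLocalRing CurvSt

namespace K693.Dens

open K902.CurveLift K902.LiftGlue K902.FamLift K901.Loci K896.MbarFam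

variable {n g : ℕ}

/-- A proper curve over a field is projective. -/
theorem isHProjective_curve {k : Type u} [Field k] {C : Scheme.{u}} (q : C ⟶ Spec (CommRingCat.of k)) [IsProper q]
    (hdim : topologicalKrullDim C = 1) : RelProj.IsHProjective q := by
  have h1 : IsLocallyNoetherian C := LocallyOfFiniteType.isLocallyNoetherian q
  have h2 : CompactSpace C := QuasiCompact.compactSpace_of_compactSpace q
  have h3 : IsNoetherian C := { }
  have h4 : C.IsSeparated := by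
    have : IsSeparated q := inferInstance
    refine ⟨?_⟩
    have h5 : terminal.from C = q ≫ terminal.from _ := terminal.hom_ext _ _
    rw [h5]
    infer_instance
  exact (K588.HProj.iff_ample q).2 ⟨inferInstance, Groth.Agent.S1551.result C hdim⟩

/-- Stability can be checked on a thickening. -/
theorem isStableFam_of_thickening {S₀ S : Scheme.{u}} {i : S₀ ⟶ S}
    (hfac : ∀ (Ω : Type u) [Field Ω] (t : Spec (CommRingCat.of Ω) ⟶ S), ∃ t₀ : Spec (CommRingCat.of Ω) ⟶ S₀, t₀ ≫ i = t)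
    {X X₀ : Scheme.{u}} {f : X ⟶ S} {f₀ : X₀ ⟶ S₀} {j : X₀ ⟶ X} (sq : IsPullback j f₀ f i)
    {σ₀ : Fin n → (S₀ ⟶ X₀)} {hσ₀ : ∀ i, σ₀ i ≫ f₀ = 𝟙 _} {σ : Fin n → (S ⟶ X)} (hσ : ∀ i, σ i ≫ f = 𝟙 _)
    (hs : ∀ l, σ₀ l ≫ j = i ≫ σ l) (h : IsStableFam f₀ σ₀ hσ₀ g) [h1 : Flat f] [h2 : IsProper f]
    [h3 : LocallyOfFinitePresentation f] : IsStableFam f σ hσ g := by
  refine ⟨h1, h2, h3, fun Ω _ _ t X' i' q hP => ?_⟩
  obtain ⟨t₀, rfl⟩ := hfac Ω t
  let i₀ : X' ⟶ X₀ := sq.lift i' (q ≫ t₀) (by rw [Category.assoc, hP.w])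
  have hi1 : i₀ ≫ j = i' := sq.lift_fst _ _ _
  have hi2 : i₀ ≫ f₀ = q ≫ t₀ := sq.lift_snd _ _ _
  have hP₀ : IsPullback i₀ q f₀ t₀ := by
    refine IsPullback.of_right ?_ hi2 sq
    rw [hi1]
    exact hP
  have := h.2.2.2 Ω t₀ X' i₀ q hP₀
  rwa [markedPt_congr_fun hσ₀ hσ hP₀ hP j hi1 fun k => by rw [hs, Category.assoc]] at this

/-- Marked points of a first order lift. -/
theorem exists_sections {S₀ S : Scheme.{u}} [IsAffine S] {i : S₀ ⟶ S} (hi : MoreMor.IsFirstOrderThickening i)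
    {X X₀ : Scheme.{u}} {f : X ⟶ S} {f₀ : X₀ ⟶ S₀} {j : X₀ ⟶ X} (sq : IsPullback j f₀ f i) [Flat f]
    [LocallyOfFinitePresentation f] {σ₀ : Fin n → (S₀ ⟶ X₀)} (hσ₀ : ∀ i, σ₀ i ≫ f₀ = 𝟙 _)
    (hsmooth : ∀ l s, SmoothAt f₀ (σ₀ l s)) :
    ∃ (τ : Fin n → (S ⟶ X)), (∀ l, τ l ≫ f = 𝟙 _) ∧ ∀ l, σ₀ l ≫ j = i ≫ τ l := by
  have hsm : ∀ l, ∃ τ : S ⟶ X, i ≫ τ = σ₀ l ≫ j ∧ τ ≫ f = 𝟙 _ := by
    intro l
    have hW : Smooth (f.smoothLocus.ι ≫ f) := Groth.Agent.VarietyA.SmoothLocusSch.smooth_smoothLocus_ι f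
    have hr : Set.range (σ₀ l ≫ j) ⊆ Set.range f.smoothLocus.ι := by
      rintro _ ⟨s, rfl⟩
      rw [Scheme.Opens.range_ι, Scheme.Hom.comp_apply]
      refine (K903.NonsmoothFin.mem_smoothLocus_iff_exists f _).2 ?_
      exact (locusProp_smooth.baseChange f _ _ _ sq (σ₀ l s)).1 (hsmooth l s)
    let a := IsOpenImmersion.lift f.smoothLocus.ι (σ₀ l ≫ j) hr
    have ha : a ≫ f.smoothLocus.ι = σ₀ l ≫ j := IsOpenImmersion.lift_fac _ _ _
    obtain ⟨τ, hτ1, hτ2⟩ := exists_lift_smooth (f.smoothLocus.ι ≫ f) _ hi a (𝟙 _) (by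
      rw [Category.comp_id, ← Category.assoc, ha, Category.assoc, sq.w, ← Category.assoc, hσ₀, Category.id_comp])
    refine ⟨τ ≫ f.smoothLocus.ι, ?_, ?_⟩
    · rw [← Category.assoc, hτ1, ha]
    · rw [Category.assoc, hτ2]
  choose τ hτ1 hτ2 using hsm
  exact ⟨τ, hτ2, fun l => (hτ1 l).symm⟩

/-- Field-valued points of a scheme factor through nilpotent thickenings. -/
theorem exists_fac_iD (k : Type u) [Field k] (Ω : Type u) [Field Ω]
    (t : Spec (CommRingCat.of Ω) ⟶ Spec (CommRingCat.of (DualNumber k))) :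
    ∃ t₀ : Spec (CommRingCat.of Ω) ⟶ Spec (CommRingCat.of k), t₀ ≫ iD k = t := by
  obtain ⟨φ, rfl⟩ := Spec.map_surjective t
  have hε : φ.hom (DualNumber.eps : DualNumber k) = 0 := by
    have h1 : φ.hom (DualNumber.eps : DualNumber k) * φ.hom (DualNumber.eps : DualNumber k) = 0 := by
      rw [← map_mul, DualNumber.eps_mul_eps, map_zero]
    exact mul_self_eq_zero.1 h1
  refine ⟨Spec.map (CommRingCat.ofHom (φ.hom.comp (algebraMap k (DualNumber k)))), ?_⟩
  rw [← Spec.map_comp]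
  congr 1
  refine CommRingCat.hom_ext (RingHom.ext fun (x : DualNumber k) => ?_)
  change φ.hom (algebraMap k (DualNumber k) (TrivSqZeroExt.fst x)) = φ.hom x
  have h2 : x = algebraMap k (DualNumber k) (TrivSqZeroExt.fst x) +
      algebraMap k (DualNumber k) (TrivSqZeroExt.snd x) * DualNumber.eps := by
    have ha : ∀ c : k, algebraMap k (DualNumber k) c = TrivSqZeroExt.inl c := fun _ => rfl
    rw [ha, ha]
    apply TrivSqZeroExt.ext <;> simp
  conv_rhs => rw [h2]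
  rw [map_add, map_mul, hε, mul_zero, add_zero]

/-- First order smoothing of stable curves, with `ε ∈ 𝔪²` at the non-smooth points. -/
theorem exists_smoothing_sq {k : Type u} [Field k] [IsAlgClosed k] {X₀ : Scheme.{u}} (f₀ : X₀ ⟶ Spec (CommRingCat.of k))
    (σ₀ : Fin n → (Spec (CommRingCat.of k) ⟶ X₀)) (hσ₀ : ∀ i, σ₀ i ≫ f₀ = 𝟙 _) (h : IsStableFam f₀ σ₀ hσ₀ g) :
    ∃ (X : Scheme.{u}) (f : X ⟶ Spec (CommRingCat.of (DualNumber k)))
      (τ : Fin n → (Spec (CommRingCat.of (DualNumber k)) ⟶ X)) (hτ : ∀ i, τ i ≫ f = 𝟙 _) (j : X₀ ⟶ X),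
      IsPullback j f₀ f (iD k) ∧ IsStableFam f τ hτ g ∧ (∀ i, σ₀ i ≫ j = iD k ≫ τ i) ∧
      ∀ p : X, ¬ SmoothAt f p → SqAt f p (epsD k) := by
  have i1 : Flat f₀ := h.1
  have i2 : IsProper f₀ := h.2.1
  have i3 : LocallyOfFinitePresentation f₀ := h.2.2.1
  have hG := K898.StabFam.geoGenus_of_isStableFam h
  have hN := K898.StabFam.isNodalFamily f₀ hG
  have hdim0 : topologicalKrullDim X₀ = 1 := by
    obtain ⟨h1, h2, -⟩ := hG k (𝟙 _) X₀ (𝟙 _) f₀ (IsPullback.of_horiz_isIso ⟨by simp⟩)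
    exact h2
  have hsyn : Synt.IsSyntomicMor f₀ := K563.NodFwd.isSyntomicMor_of_isNodalFamily f₀ hN
  have hns : {x : X₀ | x ∉ f₀.smoothLocus}.Finite := by
    refine (finite_fiber f₀ (nsFin_of_geoGenus hG) (closedPoint k)).subset fun x hx => ⟨Subsingleton.elim _ _, hx⟩
  obtain ⟨X, f, j, sq, hfl, hsq⟩ := exists_first_order f₀ (isHProjective_curve f₀ hdim0) hsyn
    (K898.StabFam.dim_fiber f₀ hG _).le hns
  have hi := isFirstOrderThickening_iD k
  obtain ⟨hp, hlfp, -⟩ := facts_of_lift hi sq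
  obtain ⟨τ, hτ, hτ'⟩ := exists_sections hi sq hσ₀ (fun l s => smoothAt_section h l s)
  refine ⟨X, f, τ, hτ, j, sq, isStableFam_of_thickening (fun Ω _ t => exists_fac_iD k Ω t) sq hτ hτ' h, hτ', fun p hp => ?_⟩
  have hj := isFirstOrderThickening_of_isPullback sq hi
  obtain ⟨x, rfl⟩ := hj.1.2.surj p
  rw [← locusProp_smooth.baseChange f _ _ _ sq x] at hp
  exact hsq x fun hx => hp ((K903.NonsmoothFin.mem_smoothLocus_iff_exists f₀ x).1 hx)

/-- A section over the dual numbers cannot pass through a point where `ε ∈ 𝔪²`. -/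
theorem not_sqAt_section {k : Type u} [Field k] {X : Scheme.{u}} (f : X ⟶ Spec (CommRingCat.of (DualNumber k)))
    (s : Spec (CommRingCat.of (DualNumber k)) ⟶ X) (hs : s ≫ f = 𝟙 _) :
    ¬ SqAt f (s (closedPoint (DualNumber k))) (epsD k) := by
  intro h
  have h1 := SqAt.comp s h
  rw [hs, ← Spec.map_id, sqAt_Spec_iff] at h1
  obtain ⟨a, ha, ha2⟩ := h1
  have hm : (closedPoint (DualNumber k)).asIdeal = maximalIdeal (DualNumber k) := rfl
  have hm2 : maximalIdeal (DualNumber k) = Ideal.span {DualNumber.eps} := DualNumber.maximalIdeal_eq_span_singleton_eps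
  change a ∉ maximalIdeal (DualNumber k) at ha
  change a * (DualNumber.eps : DualNumber k) ∈ maximalIdeal (DualNumber k) ^ 2 at ha2
  rw [hm2, Ideal.span_singleton_pow, pow_two, DualNumber.eps_mul_eps, Ideal.mem_span_singleton, zero_dvd_iff] at ha2
  rw [mem_maximalIdeal, mem_nonunits_iff, not_not] at ha
  have h3 : (DualNumber.eps : DualNumber k) = 0 := by
    rwa [ha.mul_right_eq_zero] at ha2
  have h4 := congrArg TrivSqZeroExt.snd h3
  simp at h4

/-- **(T1)** First order smoothing of stable pointed curves. -/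
theorem exists_smoothing {K : Type u} [Field K] [IsAlgClosed K] {n g : ℕ} {X₀ : Scheme.{u}}
    (f₀ : X₀ ⟶ Spec (CommRingCat.of K)) (σ₀ : Fin n → (Spec (CommRingCat.of K) ⟶ X₀)) (hσ₀ : ∀ i, σ₀ i ≫ f₀ = 𝟙 _)
    (h : IsStableFam f₀ σ₀ hσ₀ g) :
    ∃ (X : Scheme.{u}) (f : X ⟶ Spec (CommRingCat.of (DualNumber K)))
      (τ : Fin n → (Spec (CommRingCat.of (DualNumber K)) ⟶ X)) (hτ : ∀ i, τ i ≫ f = 𝟙 _) (j : X₀ ⟶ X),
      IsPullback j f₀ f (Spec.map (CommRingCat.ofHom (TrivSqZeroExt.fstHom K K K).toRingHom)) ∧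
      IsStableFam f τ hτ g ∧
      (∀ i, σ₀ i ≫ j = Spec.map (CommRingCat.ofHom (TrivSqZeroExt.fstHom K K K).toRingHom) ≫ τ i) ∧
      ∀ s : Spec (CommRingCat.of (DualNumber K)) ⟶ X, s ≫ f = 𝟙 _ → SmoothAt f (s (closedPoint (DualNumber K))) := by
  obtain ⟨X, f, τ, hτ, j, sq, hst, hm, hsq⟩ := exists_smoothing_sq f₀ σ₀ hσ₀ h
  refine ⟨X, f, τ, hτ, j, sq, hst, hm, fun s hs => ?_⟩
  by_contra hns
  exact not_sqAt_section f s hs (hsq _ hns)

end K693.Dens
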