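import Groth.Prelude.Def_StCurv
import Mathlib.RingTheory.PowerSeries.Inverse

/-!
# First-order smoothing of stable pointed curves: interface

`R1 k = k[[t]]/(t^2)`, `res1 k : R1 k → k` (reduction modulo `t`), `FirstOrder k`: every stable `n`-pointed curve over the
algebraically closed field `k` has a first order deformation (a stable pointed family over `R1 k`) such that EVERY stable
family over `k[[t]]` restricting to it is smooth away from the closed fibre.
-/

set_option autoImplicit false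

universe u

open CategoryTheory CategoryTheory.Limits AlgebraicGeometry

namespace K693.Dens

/-- `k[[t]]/(t^2)`. -/
abbrev R1 (k : Type u) [Field k] : Type u :=
  PowerSeries k ⧸ Ideal.span {(PowerSeries.X : PowerSeries k) ^ 2}

/-- `k[[t]] → k[[t]]/(t^2)`. -/
noncomputable abbrev red (k : Type u) [Field k] : PowerSeries k →+* R1 k :=
  Ideal.Quotient.mk (Ideal.span {(PowerSeries.X : PowerSeries k) ^ 2})

/-- `k[[t]]/(t^2) → k`. -/
noncomputable def res1 (k : Type u) [Field k] : R1 k →+* k :=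
  Ideal.Quotient.lift _ (PowerSeries.constantCoeff (R := k)) fun a ha => by
    obtain ⟨b, rfl⟩ := Ideal.mem_span_singleton'.1 ha
    simp

/-- **First-order smoothing** of stable pointed curves. -/
def FirstOrder (k : Type u) [Field k] [IsAlgClosed k] : Prop :=
  ∀ (g n : ℕ) (C : Scheme.{u}) (q : C ⟶ Spec (CommRingCat.of k)) (x : Fin n → (Spec (CommRingCat.of k) ⟶ C))
    (hx : ∀ j, x j ≫ q = 𝟙 _), CurvSt.IsStableFam q x hx g →
    ∃ (C₁ : Scheme.{u}) (q₁ : C₁ ⟶ Spec (CommRingCat.of (R1 k))) (x₁ : Fin n → (Spec (CommRingCat.of (R1 k)) ⟶ C₁))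
      (hx₁ : ∀ j, x₁ j ≫ q₁ = 𝟙 _) (i : C ⟶ C₁),
      CurvSt.IsStableFam q₁ x₁ hx₁ g ∧
      IsPullback i q q₁ (Spec.map (CommRingCat.ofHom (res1 k))) ∧
      (∀ j, x j ≫ i = Spec.map (CommRingCat.ofHom (res1 k)) ≫ x₁ j) ∧
      ∀ (X : Scheme.{u}) (f : X ⟶ Spec (CommRingCat.of (PowerSeries k))) (σ : Fin n → (Spec (CommRingCat.of (PowerSeries k)) ⟶ X))
        (hσ : ∀ j, σ j ≫ f = 𝟙 _) (i₁ : C₁ ⟶ X), CurvSt.IsStableFam f σ hσ g →
        IsPullback i₁ q₁ f (Spec.map (CommRingCat.ofHom (red k))) →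
        ∀ y : X, f y ≠ IsLocalRing.closedPoint (PowerSeries k) → ∃ U : X.Opens, y ∈ U ∧ Smooth (U.ι ≫ f)

end K693.Dens
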