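import Groth.Agent.S19452
import Groth.Agent.CurvSt.K693.DensAlg
import Groth.Agent.CurvSt.K693.DensSt
import Groth.Agent.Deform.K185.FlatLift

/-!
# The first order deformation of a closed subscheme of affine space attached to a normal vector

`Def1 I φ = A[ε]/{f + g ε : f ∈ I, g = φ(f)}`: flat over `k[ε]`, reduces to `A ⧸ I`; if `F ∈ I` vanishes to order two at a
point where `φ(F)` does not vanish, then `ε` is in the square of the maximal ideal there.
-/

set_option autoImplicit false
set_option backward.isDefEq.respectTransparency false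
set_option backward.isDefEq.respectTransparency.types false

universe u

open CategoryTheory CategoryTheory.Limits AlgebraicGeometry IsLocalRing

namespace K693.Dens

section

variable (k : Type u) [Field k] {A : Type u} [CommRing A] [Algebra k A] (I : Ideal A) (φ : I →ₗ[A] A ⧸ I)

/-- The first order deformation. -/
def Def1 : Type u := DualNumber A ⧸ W4c6puncthilbintro.liftIdeal I φ

noncomputable instance : CommRing (Def1 I φ) := Ideal.Quotient.commRing _

/-- The quotient map. -/
noncomputable def mk1 : DualNumber A →+* Def1 I φ := Ideal.Quotient.mk _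

theorem mk1_surjective : Function.Surjective (mk1 I φ) := Ideal.Quotient.mk_surjective

theorem mk1_eq {x y : DualNumber A} : mk1 I φ x = mk1 I φ y ↔ x - y ∈ W4c6puncthilbintro.liftIdeal I φ :=
  Ideal.Quotient.eq

/-- Its reduction. -/
noncomputable def toQ : Def1 I φ →+* A ⧸ I :=
  Ideal.Quotient.lift (W4c6puncthilbintro.liftIdeal I φ) ((Ideal.Quotient.mk I).comp (TrivSqZeroExt.fstHom A A A).toRingHom) (by
    rintro x ⟨hx, _⟩
    exact Ideal.Quotient.eq_zero_iff_mem.2 hx)

theorem toQ_mk (x : DualNumber A) : toQ I φ (mk1 I φ x) = Ideal.Quotient.mk I x.fst := rfl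

theorem toQ_surjective : Function.Surjective (toQ I φ) := by
  intro y
  obtain ⟨a, rfl⟩ := Ideal.Quotient.mk_surjective y
  exact ⟨mk1 I φ (TrivSqZeroExt.inl a), rfl⟩

/-- The structure map from the dual numbers of `k`. -/
noncomputable def str1 : DualNumber k →+* Def1 I φ :=
  (mk1 I φ).comp (W4c6puncthilbintro.dualMap k A).toRingHom

theorem str1_eps : str1 k I φ DualNumber.eps = mk1 I φ DualNumber.eps := by
  change mk1 I φ (W4c6puncthilbintro.dualMap k A DualNumber.eps) = _
  rw [W4c6puncthilbintro.dualMap_eps]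

theorem toQ_comp_str1 : (toQ I φ).comp (str1 k I φ) =
    (algebraMap k (A ⧸ I)).comp (TrivSqZeroExt.fstHom k k k).toRingHom := by
  have h : ((TrivSqZeroExt.fstHom k A A).comp (W4c6puncthilbintro.dualMap k A)) =
      (Algebra.ofId k A).comp (TrivSqZeroExt.fstHom k k k) := by
    apply DualNumber.algHom_ext
    rw [AlgHom.comp_apply, W4c6puncthilbintro.dualMap_eps]
    simp
  refine RingHom.ext fun x => ?_
  exact congrArg (Ideal.Quotient.mk I) (AlgHom.congr_fun h x)

theorem ker_toQ : RingHom.ker (toQ I φ) ≤ (RingHom.ker (TrivSqZeroExt.fstHom k k k).toRingHom).map (str1 k I φ) := by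
  intro x hx
  obtain ⟨x, rfl⟩ := mk1_surjective I φ x
  have hx' : x.fst ∈ I := Ideal.Quotient.eq_zero_iff_mem.1 hx
  obtain ⟨G, hG⟩ := Ideal.Quotient.mk_surjective (φ ⟨x.fst, hx'⟩)
  have h1 : mk1 I φ x = mk1 I φ DualNumber.eps * mk1 I φ (TrivSqZeroExt.inl (x.snd - G)) := by
    rw [← map_mul, mk1_eq]
    refine ⟨?_, ?_⟩
    · simpa using hx'
    · have h2 : (⟨(x - DualNumber.eps * TrivSqZeroExt.inl (x.snd - G) : DualNumber A).fst, by simpa using hx'⟩ : I) =
          ⟨x.fst, hx'⟩ := Subtype.ext (by simp)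
      rw [h2, ← hG]
      congr 1
      simp
  rw [h1, ← str1_eps k]
  exact Ideal.mul_mem_right _ _ (Ideal.mem_map_of_mem _ (by
    change TrivSqZeroExt.fst (DualNumber.eps : DualNumber k) = 0
    simp))

/-- The reduction square. -/
theorem isPullback_def1 : IsPullback (Spec.map (CommRingCat.ofHom (toQ I φ)))
    (Spec.map (CommRingCat.ofHom (algebraMap k (A ⧸ I)))) (Spec.map (CommRingCat.ofHom (str1 k I φ)))
    (Spec.map (CommRingCat.ofHom (TrivSqZeroExt.fstHom k k k).toRingHom)) := by
  refine K185.FlatLift.isPullback_of_ker _ _ _ _ ?_ ?_ (toQ_surjective I φ) (ker_toQ k I φ)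
  · refine CommRingCat.hom_ext ?_
    exact toQ_comp_str1 k I φ
  · intro a
    exact ⟨TrivSqZeroExt.inl a, rfl⟩

theorem flat_def1 : Flat (Spec.map (CommRingCat.ofHom (str1 k I φ))) := by
  rw [Flat.SpecMap_iff]
  let _ := W4c6puncthilbintro.dualAlgebra k A
  have h := (Groth.Agent.S19452.result k A I).1 φ
  have h2 : (algebraMap (DualNumber k) (DualNumber A ⧸ W4c6puncthilbintro.liftIdeal I φ)).Flat :=
    RingHom.flat_algebraMap_iff.2 h.1
  exact h2

end

/-- `ε` is in the square of the maximal ideal at the points where some second order equation is moved. -/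
theorem eps_mem_sq {A : Type u} [CommRing A] (I : Ideal A) (φ : I →ₗ[A] A ⧸ I) (P : Ideal (A ⧸ I)) [P.IsPrime]
    {F : A} (hF : F ∈ I) (hF2 : F ∈ (P.comap (Ideal.Quotient.mk I)) ^ 2) (h : φ ⟨F, hF⟩ ∉ P) (L : Type u) [CommRing L]
    [IsLocalRing L] [Algebra (Def1 I φ) L] [IsLocalization.AtPrime L (P.comap (toQ I φ))] :
    algebraMap (Def1 I φ) L (mk1 I φ DualNumber.eps) ∈ maximalIdeal L ^ 2 := by
  obtain ⟨G, hG⟩ := Ideal.Quotient.mk_surjective (φ ⟨F, hF⟩)
  let ι : A →+* Def1 I φ := (mk1 I φ).comp (TrivSqZeroExt.inlHom A A)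
  have hι : ∀ a, toQ I φ (ι a) = Ideal.Quotient.mk I a := fun a => rfl
  have h1 : ι F + mk1 I φ DualNumber.eps * ι G = 0 := by
    change mk1 I φ (TrivSqZeroExt.inl F) + mk1 I φ DualNumber.eps * mk1 I φ (TrivSqZeroExt.inl G) = 0
    rw [← map_mul, ← map_add, ← map_zero (mk1 I φ), mk1_eq, sub_zero]
    refine ⟨by simpa using hF, ?_⟩
    have h2 : (⟨(TrivSqZeroExt.inl F + DualNumber.eps * TrivSqZeroExt.inl G : DualNumber A).fst, by simpa using hF⟩ : I) =
        ⟨F, hF⟩ := Subtype.ext (by simp)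
    rw [h2, ← hG]
    congr 1
    simp
  have hle : P.comap (Ideal.Quotient.mk I) ≤ (P.comap (toQ I φ)).comap ι := fun a ha => by
    rw [Ideal.mem_comap, Ideal.mem_comap, hι]
    exact ha
  have h2 : ι F ∈ (P.comap (toQ I φ)) ^ 2 := by
    have := Ideal.mem_map_of_mem ι hF2
    rw [Ideal.map_pow] at this
    exact Ideal.pow_right_mono (Ideal.map_le_iff_le_comap.2 hle) 2 this
  have hm : (P.comap (toQ I φ)).map (algebraMap _ L) = maximalIdeal L :=
    IsLocalization.AtPrime.map_eq_maximalIdeal _ L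
  have h3 : algebraMap _ L (ι F) ∈ maximalIdeal L ^ 2 := by
    rw [← hm, ← Ideal.map_pow]
    exact Ideal.mem_map_of_mem _ h2
  have h4 : IsUnit (algebraMap _ L (ι G)) := by
    refine IsLocalization.map_units L (⟨ι G, ?_⟩ : (P.comap (toQ I φ)).primeCompl)
    change ¬ toQ I φ (ι G) ∈ P
    rw [hι, hG]
    exact h
  have h5 := congrArg (algebraMap _ L) h1
  rw [map_add, map_mul, map_zero] at h5
  obtain ⟨w, hw⟩ := h4.exists_right_inv
  have h6 : algebraMap _ L (mk1 I φ DualNumber.eps) = - (algebraMap _ L (ι F) * w) := by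
    have : algebraMap _ L (mk1 I φ DualNumber.eps) * algebraMap _ L (ι G) = - algebraMap _ L (ι F) :=
      eq_neg_of_add_eq_zero_right h5
    calc _ = algebraMap _ L (mk1 I φ DualNumber.eps) * (algebraMap _ L (ι G) * w) := by rw [hw, mul_one]
      _ = _ := by rw [← mul_assoc, this, neg_mul]
  rw [h6]
  exact neg_mem (Ideal.mul_mem_right _ _ h3)

end K693.Dens
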